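import Groth.Agent.H12AlgSp.Dim.Tdeg
import Groth.Agent.H12AlgSp.SubExt.FTLimit
import Groth.Agent.H8Props.FieldDimScheme
import Groth.Prelude.Def_AlgSpDec

/-!
Dimension of algebraic spaces locally of finite type over a field through geometric points of charts.
-/

set_option autoImplicit false
set_option backward.isDefEq.respectTransparency false
set_option linter.style.haveILetI false

universe u

open CategoryTheory CategoryTheory.Limits AlgebraicGeometry Opposite
open AlgSp Groth.Agent.H13AlgSp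

namespace Groth.Agent.H12AlgSp.Dim

variable {S : Scheme.{u}} {K : Type u} [Field K]

/-- A spectrum over the base. -/
noncomputable abbrev specObj (A : Type u) [CommRing A] (g : Spec (CommRingCat.of A) ⟶ S) : Over S := Over.mk g

/-- A nonempty scheme etale over an algebraically closed field has a rational point. -/
theorem exists_section_of_surjective [IsAlgClosed K] {V : Scheme.{u}} (r : V ⟶ Spec (CommRingCat.of K))
    [Etale r] [Surjective r] : ∃ e : Spec (CommRingCat.of K) ⟶ V, e ≫ r = 𝟙 _ := by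
  obtain ⟨v, -⟩ := r.surjective (IsLocalRing.closedPoint K)
  obtain ⟨C, hC, hvC, -⟩ := exists_isAffineOpen_mem_and_subset (TopologicalSpace.Opens.mem_top v)
  obtain ⟨θ, hθ⟩ := Spec.map_surjective (hC.fromSpec ≫ r)
  letI : Algebra K Γ(V, C) := θ.hom.toAlgebra
  haveI : Algebra.FiniteType K Γ(V, C) := by
    have : LocallyOfFiniteType (Spec.map θ) := hθ ▸ inferInstance
    exact (HasRingHomProperty.Spec_iff (P := @LocallyOfFiniteType)).1 this
  haveI : Nontrivial Γ(V, C) := by
    obtain ⟨q, -⟩ : v ∈ Set.range hC.fromSpec := by rw [hC.range_fromSpec]; exact hvC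
    exact PrimeSpectrum.nonempty_iff_nontrivial.1 ⟨q⟩
  obtain ⟨m, hm⟩ := Ideal.exists_maximal Γ(V, C)
  letI : Field (Γ(V, C) ⧸ m) := Ideal.Quotient.field m
  haveI : Algebra.FiniteType K (Γ(V, C) ⧸ m) := Algebra.FiniteType.trans (R := K) (S := Γ(V, C)) inferInstance inferInstance
  haveI : Module.Finite K (Γ(V, C) ⧸ m) := finite_of_finite_type_of_isJacobsonRing K (Γ(V, C) ⧸ m)
  let e : K ≃ₐ[K] Γ(V, C) ⧸ m := AlgEquiv.ofBijective (Algebra.ofId K _) IsAlgClosed.algebraMap_bijective_of_isIntegral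
  let χ : Γ(V, C) →ₐ[K] K := e.symm.toAlgHom.comp (Ideal.Quotient.mkₐ K m)
  refine ⟨Spec.map (CommRingCat.ofHom χ.toRingHom) ≫ hC.fromSpec, ?_⟩
  rw [Category.assoc, ← hθ, ← Spec.map_comp, ← Spec.map_id]
  congr 1
  exact CommRingCat.hom_ext (RingHom.ext fun z => χ.commutes z)

/-- Geometric points lift to affine pieces of surjective etale charts. -/
theorem exists_affine_lift [IsAlgClosed K] {X : Sp S} {U : Over S} {p : (yon S).obj U ⟶ X} (hp : RepWith @Etale p)
    (hps : RepWith @Surjective p) {τ : Spec (CommRingCat.of K) ⟶ S} (x : (yon S).obj (specObj K τ) ⟶ X) :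
    ∃ (W : U.left.Opens) (hW : IsAffineOpen W) (φ : Γ(U.left, W) →+* K)
      (h : Spec.map (CommRingCat.ofHom φ) ≫ hW.fromSpec ≫ U.hom = τ),
      (yon S).map (Over.homMk (Spec.map (CommRingCat.ofHom φ)) h : specObj K τ ⟶ specObj Γ(U.left, W) (hW.fromSpec ≫ U.hom)) ≫
        (yon S).map (Over.homMk hW.fromSpec rfl : specObj Γ(U.left, W) (hW.fromSpec ≫ U.hom) ⟶ U) ≫ p = x := by
  obtain ⟨V, r, h', sq⟩ := hp.1 x
  obtain ⟨h, hh⟩ := (yon S).map_surjective h'
  haveI : Etale r.left := hp.2 _ _ _ sq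
  haveI : Surjective r.left := hps.2 _ _ _ sq
  obtain ⟨e, he⟩ := exists_section_of_surjective r.left
  let e' : specObj K τ ⟶ V := Over.homMk e (by
    rw [← Over.w r]
    exact ((Category.assoc _ _ _).symm.trans (congrArg (· ≫ (specObj K τ).hom) he)).trans (Category.id_comp _))
  have her : e' ≫ r = 𝟙 _ := Over.OverMorphism.ext he
  let m := e' ≫ h
  have hm : (yon S).map m ≫ p = x := by
    rw [Functor.map_comp, hh, Category.assoc, sq.w, ← Category.assoc, ← Functor.map_comp, her,
      CategoryTheory.Functor.map_id, Category.id_comp]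
  obtain ⟨W, hW, hu, -⟩ := exists_isAffineOpen_mem_and_subset
    (TopologicalSpace.Opens.mem_top (m.left (IsLocalRing.closedPoint K)))
  have hr : Set.range m.left ⊆ Set.range hW.fromSpec := by
    rintro _ ⟨t, rfl⟩
    rw [hW.range_fromSpec, Subsingleton.elim (α := PrimeSpectrum K) t (IsLocalRing.closedPoint K)]
    exact hu
  obtain ⟨φ, hφ⟩ := Spec.map_surjective (IsOpenImmersion.lift hW.fromSpec m.left hr)
  refine ⟨W, hW, φ.hom, ?_, ?_⟩
  · rw [CommRingCat.ofHom_hom, hφ, ← Category.assoc, IsOpenImmersion.lift_fac, Over.w m]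
    rfl
  · rw [← Category.assoc, ← Functor.map_comp]
    refine Eq.trans ?_ hm
    congr 2
    refine Over.OverMorphism.ext ?_
    simp only [Over.comp_left, Over.homMk_left, CommRingCat.ofHom_hom, hφ, IsOpenImmersion.lift_fac]

variable {k : Type u} [Field k] [Algebra k K]

/-- At a common geometric point an etale chart is algebraic over any other affine piece. -/
theorem tdeg_chart_le {X : Sp S} {A R : Type u} [CommRing A] [CommRing R] {g : Spec (CommRingCat.of A) ⟶ S}
    {g' : Spec (CommRingCat.of R) ⟶ S} {p : (yon S).obj (specObj A g) ⟶ X} (hp : RepWith @Etale p)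
    (f : (yon S).obj (specObj R g') ⟶ X) {τ : Spec (CommRingCat.of K) ⟶ S} (φ : A →+* K) (ρ : R →+* K)
    (h : Spec.map (CommRingCat.ofHom φ) ≫ g = τ) (h' : Spec.map (CommRingCat.ofHom ρ) ≫ g' = τ)
    (e : (yon S).map (Over.homMk (Spec.map (CommRingCat.ofHom φ)) h : specObj K τ ⟶ specObj A g) ≫ p =
      (yon S).map (Over.homMk (Spec.map (CommRingCat.ofHom ρ)) h' : specObj K τ ⟶ specObj R g') ≫ f)
    {T : Set K} (hT : ∀ r, ρ r ∈ IntermediateField.adjoin k T) :
    tdeg k (Set.range φ) ≤ tdeg k T := by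
  obtain ⟨Q, r, l', sq⟩ := hp.1 f
  obtain ⟨l, hl⟩ := (yon S).map_surjective l'
  haveI : Etale r.left := hp.2 _ _ _ sq
  obtain ⟨q', hq₁, hq₂⟩ := sq.exists_lift _ _ e
  obtain ⟨q, rfl⟩ := (yon S).map_surjective q'
  rw [← hl, ← Functor.map_comp] at hq₁
  rw [← Functor.map_comp] at hq₂
  have e₁ := congrArg CommaMorphism.left ((yon S).map_injective hq₁)
  have e₂ := congrArg CommaMorphism.left ((yon S).map_injective hq₂)
  simp only [Over.comp_left, Over.homMk_left] at e₁ e₂
  obtain ⟨C, hC, hu, -⟩ := exists_isAffineOpen_mem_and_subset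
    (TopologicalSpace.Opens.mem_top (q.left (IsLocalRing.closedPoint K)))
  have hr : Set.range q.left ⊆ Set.range hC.fromSpec := by
    rintro _ ⟨t, rfl⟩
    rw [hC.range_fromSpec, Subsingleton.elim (α := PrimeSpectrum K) t (IsLocalRing.closedPoint K)]
    exact hu
  obtain ⟨χ, hχ⟩ := Spec.map_surjective (IsOpenImmersion.lift hC.fromSpec q.left hr)
  obtain ⟨α, hα⟩ := Spec.map_surjective (hC.fromSpec ≫ l.left)
  obtain ⟨β, hβ⟩ := Spec.map_surjective (hC.fromSpec ≫ r.left)
  have hχα : (χ.hom).comp α.hom = φ := by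
    have : Spec.map (α ≫ χ) = Spec.map (CommRingCat.ofHom φ) := by
      rw [Spec.map_comp, hα, hχ, IsOpenImmersion.lift_fac_assoc, e₁]
    exact congrArg CommRingCat.Hom.hom (Spec.map_injective this)
  have hχβ : (χ.hom).comp β.hom = ρ := by
    have : Spec.map (β ≫ χ) = Spec.map (CommRingCat.ofHom ρ) := by
      rw [Spec.map_comp, hβ, hχ, IsOpenImmersion.lift_fac_assoc, e₂]
    exact congrArg CommRingCat.Hom.hom (Spec.map_injective this)
  have het : Etale (Spec.map β) := by rw [hβ]; infer_instance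
  letI : Algebra R Γ(Q.left, C) := β.hom.toAlgebra
  haveI : Algebra.Etale R Γ(Q.left, C) := (HasRingHomProperty.Spec_iff (P := @Etale)).1 het
  haveI : Algebra.FinitePresentation R Γ(Q.left, C) := inferInstance
  refine tdeg_le_of_isAlgebraic ?_
  rintro _ ⟨a, rfl⟩
  rw [← hχα]
  refine isAlgebraic_of_unramified (R := R) χ.hom _ (fun r => ?_) (α.hom a)
  change (χ.hom.comp β.hom) r ∈ _
  rw [hχβ]
  exact hT r

variable (σ : Spec (CommRingCat.of k) ⟶ S)

/-- The structure homomorphism of an affine chart of a space over a field. -/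
theorem exists_chart_algebra {X : Sp S} {q : X ⟶ (yon S).obj (Over.mk σ)} (hq : LocP @LocallyOfFiniteType q)
    {A : Type u} [CommRing A] {g : Spec (CommRingCat.of A) ⟶ S} {p : (yon S).obj (specObj A g) ⟶ X}
    (hp : RepWith @Etale p) :
    ∃ (ψ : k →+* A) (hψ : Spec.map (CommRingCat.ofHom ψ) ≫ σ = g), ψ.FiniteType ∧
      p ≫ q = (yon S).map (Over.homMk (Spec.map (CommRingCat.ofHom ψ)) hψ : specObj A g ⟶ Over.mk σ) := by
  obtain ⟨m, hm⟩ := (yon S).map_surjective (p ≫ q)
  obtain ⟨ψ, hψ⟩ := Spec.map_surjective m.left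
  have hw : Spec.map ψ ≫ σ = g := hψ ▸ Over.w m
  refine ⟨ψ.hom, hw, ?_, ?_⟩
  · have h1 : LocallyOfFiniteType m.left := hq p (𝟙 _) m hp (repWith_id _ _) (by rw [Category.comp_id, hm])
    rw [← hψ] at h1
    exact (HasRingHomProperty.Spec_iff (P := @LocallyOfFiniteType)).1 h1
  · rw [← hm]
    congr 1
    exact Over.OverMorphism.ext hψ.symm

/-- Transcendence degrees of chart points are bounded by the dimension. -/
theorem exists_tdeg_le_dim {X : Sp S} {A : Type u} [CommRing A] {g : Spec (CommRingCat.of A) ⟶ S}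
    {p : (yon S).obj (specObj A g) ⟶ X} (hp : RepWith @Etale p) [Algebra k A] [Algebra.FiniteType k A]
    (φ : A →ₐ[k] K) : ∃ s : ℕ, tdeg k (Set.range φ) = s ∧ (s : WithBot ℕ∞) ≤ dim X := by
  obtain ⟨s, hs, hs'⟩ := exists_dim_eq_tdeg A φ
  refine ⟨s, hs', hs ▸ ?_⟩
  refine (ringKrullDim_le_of_surjective _ Ideal.Quotient.mk_surjective).trans ?_
  refine le_trans ?_ (le_iSup_of_le (specObj A g) (le_iSup_of_le p (le_iSup_of_le hp le_rfl)))
  exact (PrimeSpectrum.topologicalKrullDim_eq_ringKrullDim A).ge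

/-- Dimensions are bounded pointwise on charts. -/
theorem dim_le_of_points {X : Sp S} {q : X ⟶ (yon S).obj (Over.mk σ)} (hq : LocP @LocallyOfFiniteType q)
    (M : WithBot ℕ∞)
    (h : ∀ (A : Type u) [CommRing A] [Algebra k A] [Algebra.FiniteType k A] (g : Spec (CommRingCat.of A) ⟶ S)
      (p : (yon S).obj (specObj A g) ⟶ X) (_ : RepWith @Etale p)
      (hg : Spec.map (CommRingCat.ofHom (algebraMap k A)) ≫ σ = g)
      (_ : p ≫ q = (yon S).map (Over.homMk (Spec.map (CommRingCat.ofHom (algebraMap k A))) hg : specObj A g ⟶ Over.mk σ))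
      (K : Type u) [Field K] [Algebra k K] [IsAlgClosed K] (φ : A →ₐ[k] K) (s : ℕ),
      tdeg k (Set.range φ) = s → (s : WithBot ℕ∞) ≤ M) : AlgSp.dim X ≤ M := by
  refine iSup_le fun U => iSup_le fun a => iSup_le fun ha => ?_
  obtain ⟨m, hm⟩ := (yon S).map_surjective (a ≫ q)
  haveI : LocallyOfFiniteType m.left := hq a (𝟙 _) m ha (repWith_id _ _) (by rw [Category.comp_id, hm])
  rw [H8Props.FieldDim.dim_eq_iSup_cdim]
  refine iSup_le fun u => ?_
  obtain ⟨W, hW, huW, -⟩ := exists_isAffineOpen_mem_and_subset (TopologicalSpace.Opens.mem_top u)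
  obtain ⟨P, rfl⟩ : u ∈ Set.range hW.fromSpec := by rw [hW.range_fromSpec]; exact huW
  let A := Γ(U.left, W)
  let g : Spec (CommRingCat.of A) ⟶ S := hW.fromSpec ≫ U.hom
  let incl : specObj A g ⟶ U := Over.homMk hW.fromSpec rfl
  have hp : RepWith @Etale ((yon S).map incl ≫ a) :=
    repWith_comp ((repWith_yon_map_iff _ _).2 (show Etale hW.fromSpec from inferInstance)) ha
  obtain ⟨ψ, hψ, hft, hψq⟩ := exists_chart_algebra σ hq hp
  letI : Algebra k A := ψ.toAlgebra
  haveI : Algebra.FiniteType k A := hft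
  have hj : hW.fromSpec ≫ m.left = Spec.map (CommRingCat.ofHom (algebraMap k A)) := by
    have h1 : (yon S).map (incl ≫ m) = (yon S).map (Over.homMk (Spec.map (CommRingCat.ofHom ψ)) hψ) := by
      rw [← hψq, Functor.map_comp, hm, Category.assoc]
    exact congrArg CommaMorphism.left ((yon S).map_injective h1)
  erw [H8Props.FieldDim.cdim_eq_chart m.left (A := A) hW.fromSpec P]
  let Pp : PrimeSpectrum A := P
  let K := AlgebraicClosure Pp.asIdeal.ResidueField
  let κ : A →+* K := (algebraMap Pp.asIdeal.ResidueField K).comp (algebraMap A Pp.asIdeal.ResidueField)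
  letI : Algebra k K := (κ.comp ψ).toAlgebra
  let φ : A →ₐ[k] K := { κ with commutes' := fun _ => rfl }
  have hκ : RingHom.ker φ = Pp.asIdeal := by
    change RingHom.ker ((algebraMap Pp.asIdeal.ResidueField K).comp (algebraMap A Pp.asIdeal.ResidueField)) = _
    rw [RingHom.ker_comp_of_injective (algebraMap A Pp.asIdeal.ResidueField)
      (algebraMap Pp.asIdeal.ResidueField K).injective]
    exact Ideal.ker_algebraMap_residueField _
  obtain ⟨s, hs, hs'⟩ := exists_dim_eq_tdeg A φ
  change ringKrullDim (A ⧸ Pp.asIdeal) ≤ M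
  rw [← hκ, hs]
  exact h A g _ hp hψ hψq K φ s hs'

end Groth.Agent.H12AlgSp.Dim
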