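import Groth.Agent.H12AlgSp.Dim.Charts
import Groth.Agent.H12AlgSp.Branch.Groupoid

/-!
The dimension of a groupoid space over a field is that of its stabilizer.
-/

set_option autoImplicit false
set_option backward.isDefEq.respectTransparency false
set_option linter.style.haveILetI false

universe u

open CategoryTheory CategoryTheory.Limits AlgebraicGeometry Opposite
open AlgSp Groth.Agent.H13AlgSp
open scoped TensorProduct

namespace Groth.Agent.H12AlgSp.Dim

variable {S : Scheme.{u}} {k : Type u} [Field k]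

/-- Ring homomorphisms to the functions correspond to maps to spectra. -/
theorem toSpecΓ_specMap_appTop {T : Scheme.{u}} {A : CommRingCat.{u}} (m : T ⟶ Spec A) :
    T.toSpecΓ ≫ Spec.map ((Scheme.ΓSpecIso A).inv ≫ m.appTop) = m := by
  rw [Spec.map_comp, ← Scheme.toSpecΓ_naturality_assoc, toSpecΓ_SpecMap_ΓSpecIso_inv, Category.comp_id]

theorem appTop_specMap {T : Scheme.{u}} {A B : CommRingCat.{u}} (m : T ⟶ Spec B) (ψ : A ⟶ B) :
    (Scheme.ΓSpecIso A).inv ≫ (m ≫ Spec.map ψ).appTop = ψ ≫ (Scheme.ΓSpecIso B).inv ≫ m.appTop := by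
  rw [Scheme.Hom.comp_appTop, ← Category.assoc, ← Scheme.ΓSpecIso_inv_naturality, Category.assoc]

/-- A chart of an equalizer of two maps to the spectrum of a field. -/
theorem exists_equalizer_chart {E R : Sp S} {σ : Spec (CommRingCat.of k) ⟶ S}
    (s t : R ⟶ (yon S).obj (Over.mk σ)) (ι : E ⟶ R) [Mono ι] (hι : ι ≫ s = ι ≫ t)
    (hlift : ∀ {T : Sp S} (x : T ⟶ R), x ≫ s = x ≫ t → ∃ y : T ⟶ E, y ≫ ι = x)
    {A : Type u} [CommRing A] (g : Spec (CommRingCat.of A) ⟶ S) (p : (yon S).obj (specObj A g) ⟶ R)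
    (hp : RepWith @Etale p) (ψ ψ' : k →+* A) (hψ : Spec.map (CommRingCat.ofHom ψ) ≫ σ = g)
    (hψ' : Spec.map (CommRingCat.ofHom ψ') ≫ σ = g)
    (hs : p ≫ s = (yon S).map (Over.homMk (Spec.map (CommRingCat.ofHom ψ)) hψ : specObj A g ⟶ Over.mk σ))
    (ht : p ≫ t = (yon S).map (Over.homMk (Spec.map (CommRingCat.ofHom ψ')) hψ' : specObj A g ⟶ Over.mk σ))
    (J : Ideal A) (hJ : J = Ideal.span (Set.range fun x => ψ x - ψ' x)) :
    ∃ l : (yon S).obj (specObj (A ⧸ J) (Spec.map (CommRingCat.ofHom (Ideal.Quotient.mk J)) ≫ g)) ⟶ E,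
      RepWith @Etale l ∧
        l ≫ ι = (yon S).map (Over.homMk (Spec.map (CommRingCat.ofHom (Ideal.Quotient.mk J))) rfl) ≫ p := by
  let oJ := specObj (A ⧸ J) (Spec.map (CommRingCat.ofHom (Ideal.Quotient.mk J)) ≫ g)
  let i : oJ ⟶ specObj A g := Over.homMk (Spec.map (CommRingCat.ofHom (Ideal.Quotient.mk J))) rfl
  let ms : specObj A g ⟶ Over.mk σ := Over.homMk (Spec.map (CommRingCat.ofHom ψ)) hψ
  let mt : specObj A g ⟶ Over.mk σ := Over.homMk (Spec.map (CommRingCat.ofHom ψ')) hψ'
  have hi : i ≫ ms = i ≫ mt := Over.OverMorphism.ext (by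
    simp only [Over.comp_left, Over.homMk_left, i, ms, mt, ← Spec.map_comp]
    congr 1
    exact CommRingCat.hom_ext (RingHom.ext fun x => (Ideal.Quotient.eq).2 (hJ ▸ Ideal.subset_span ⟨x, rfl⟩)))
  obtain ⟨l, hl⟩ := hlift ((yon S).map i ≫ p) (by
    rw [Category.assoc, Category.assoc, hs, ht]
    exact ((yon S).map_comp i ms).symm.trans ((congrArg (yon S).map hi).trans ((yon S).map_comp i mt)))
  have hiM : Mono i := (Over.forget S).mono_of_mono_map
    (show Mono i.left from
      haveI : IsClosedImmersion (Spec.map (CommRingCat.ofHom (Ideal.Quotient.mk J))) :=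
        IsClosedImmersion.spec_of_surjective _ Ideal.Quotient.mk_surjective
      inferInstanceAs (Mono (Spec.map (CommRingCat.ofHom (Ideal.Quotient.mk J)))))
  have sq : IsPullback ((yon S).map i) l p ι := by
    have hcone : ∀ c : PullbackCone p ι, ∃ a : c.pt ⟶ (yon S).obj oJ, a ≫ (yon S).map i = c.fst := fun c => by
      refine SubExt.exists_factor_of_points _ _ fun T x => ?_
      obtain ⟨m, hm⟩ := (yon S).map_surjective (x ≫ c.fst)
      have h1 : m ≫ ms = m ≫ mt := (yon S).map_injective (by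
        have e : (x ≫ c.fst) ≫ p ≫ s = (x ≫ c.fst) ≫ p ≫ t := by
          rw [Category.assoc, Category.assoc, ← Category.assoc c.fst, ← Category.assoc c.fst, c.condition,
            Category.assoc, Category.assoc, hι]
        rw [hs, ht, ← hm, ← Functor.map_comp, ← Functor.map_comp] at e
        exact e)
      have h2 := congrArg (fun z => (Scheme.ΓSpecIso (CommRingCat.of k)).inv ≫ z.left.appTop) h1
      simp only [Over.comp_left, Over.homMk_left, ms, mt, appTop_specMap] at h2
      let θ : CommRingCat.of A ⟶ Γ(T.left, ⊤) := (Scheme.ΓSpecIso (CommRingCat.of A)).inv ≫ m.left.appTop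
      have hθ : ∀ a ∈ J, θ.hom a = 0 := by
        intro a ha
        rw [hJ] at ha
        refine (show Ideal.span (Set.range fun x => ψ x - ψ' x) ≤ RingHom.ker θ.hom from Ideal.span_le.2 ?_) ha
        rintro _ ⟨x, rfl⟩
        rw [SetLike.mem_coe, RingHom.mem_ker, map_sub, sub_eq_zero]
        have h3 := RingHom.congr_fun (congrArg CommRingCat.Hom.hom h2) x
        rw [appTop_specMap, appTop_specMap] at h3
        exact h3
      let a' : T.left ⟶ oJ.left := T.left.toSpecΓ ≫ Spec.map (CommRingCat.ofHom (Ideal.Quotient.lift J θ.hom hθ))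
      have ha' : a' ≫ i.left = m.left := by
        change (T.left.toSpecΓ ≫ Spec.map _) ≫ Spec.map _ = m.left
        rw [Category.assoc, ← Spec.map_comp]
        refine Eq.trans ?_ (toSpecΓ_specMap_appTop m.left)
        congr 2
      refine ⟨(yon S).map (Over.homMk a' (by rw [← Over.w i, ← Category.assoc, ha']; exact Over.w m)), ?_⟩
      rw [← Functor.map_comp, ← hm]
      congr 1
      exact Over.OverMorphism.ext ha'
    choose a ha using hcone
    refine ⟨⟨hl.symm⟩, ⟨PullbackCone.IsLimit.mk hl.symm a ha (fun c => ?_) (fun c m hm₁ _ => ?_)⟩⟩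
    · rw [← cancel_mono ι, Category.assoc, hl, ← Category.assoc, ha, c.condition]
    · rw [← cancel_mono ((yon S).map i), ha, hm₁]
  exact ⟨l, repWith_of_isPullback sq hp, hl⟩

/-- An equalizer of two maps to the spectrum of a field is locally of finite type. -/
theorem repWith_lft_equalizer {E R : Sp S} {σ : Spec (CommRingCat.of k) ⟶ S}
    (s t : R ⟶ (yon S).obj (Over.mk σ)) (ι : E ⟶ R) [Mono ι] (hι : ι ≫ s = ι ≫ t)
    (hlift : ∀ {T : Sp S} (x : T ⟶ R), x ≫ s = x ≫ t → ∃ y : T ⟶ E, y ≫ ι = x) :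
    RepWith @LocallyOfFiniteType ι := by
  refine MorphismProperty.relative.of_exists fun T z => ?_
  obtain ⟨m₁, hm₁⟩ := (yon S).map_surjective (z ≫ s)
  obtain ⟨m₂, hm₂⟩ := (yon S).map_surjective (z ≫ t)
  let δ : Over.mk σ ⟶ Over.mk σ ⨯ Over.mk σ := prod.lift (𝟙 _) (𝟙 _)
  let c := pullback.fst (prod.lift m₁ m₂) δ
  have hδ : LocallyOfFiniteType δ.left := by
    haveI : LocallyOfFiniteType (δ.left ≫ (prod.fst : Over.mk σ ⨯ Over.mk σ ⟶ Over.mk σ).left) := by
      rw [← Over.comp_left, prod.lift_fst, Over.id_left]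
      infer_instance
    exact locallyOfFiniteType_of_comp δ.left (prod.fst : Over.mk σ ⨯ Over.mk σ ⟶ Over.mk σ).left
  have hc : LocallyOfFiniteType c.left :=
    MorphismProperty.of_isPullback (((IsPullback.of_hasPullback (prod.lift m₁ m₂) δ).map (Over.forget S)).flip) hδ
  have hcm : c ≫ m₁ = c ≫ m₂ := by
    have h := pullback.condition (f := prod.lift m₁ m₂) (g := δ)
    have h₁ := congrArg (· ≫ prod.fst) h
    have h₂ := congrArg (· ≫ prod.snd) h
    simp only [Category.assoc, δ, prod.lift_fst, prod.lift_snd] at h₁ h₂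
    exact h₁.trans h₂.symm
  obtain ⟨l, hl⟩ := hlift ((yon S).map c ≫ z) (by
    rw [Category.assoc, Category.assoc, ← hm₁, ← hm₂, ← Functor.map_comp, ← Functor.map_comp, hcm])
  haveI : Mono δ := mono_of_mono_fac (h := 𝟙 (Over.mk σ)) (prod.lift_fst _ _)
  refine ⟨_, l, c, ?_, hc⟩
  have hcone : ∀ d : PullbackCone ι z, ∃ a : d.pt ⟶ (yon S).obj _, a ≫ (yon S).map c = d.snd := fun d => by
    refine SubExt.exists_factor_of_points _ _ fun T' x => ?_
    obtain ⟨μ, hμ⟩ := (yon S).map_surjective (x ≫ d.snd)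
    have h1 : μ ≫ m₁ = μ ≫ m₂ := (yon S).map_injective (by
      rw [Functor.map_comp, Functor.map_comp, hm₁, hm₂, hμ, Category.assoc, Category.assoc, ← Category.assoc d.snd,
        ← Category.assoc d.snd, ← d.condition, Category.assoc, Category.assoc, hι])
    refine ⟨(yon S).map (pullback.lift μ (μ ≫ m₁) ?_), ?_⟩
    · apply prod.hom_ext <;> simp [δ, h1]
    · rw [← Functor.map_comp, pullback.lift_fst, hμ]
  choose a ha using hcone
  refine ⟨⟨hl⟩, ⟨PullbackCone.IsLimit.mk hl a (fun d => ?_) ha (fun d m _ hm' => ?_)⟩⟩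
  · rw [← cancel_mono ι, Category.assoc, hl, ← Category.assoc, ha, d.condition]
  · rw [← cancel_mono ((yon S).map c), ha, hm']

variable {B : Sp S} (G : GroupoidSp B)

/-- The stabilizer equalizes source and target. -/
theorem stabilizerι_s_eq_t : G.stabilizerι ≫ G.s = G.stabilizerι ≫ G.t := by
  have h := pullback.condition (f := G.j) (g := G.diag)
  have h₁ := congrArg (· ≫ pullback.fst G.pU G.pU) h
  have h₂ := congrArg (· ≫ pullback.snd G.pU G.pU) h
  simp only [Category.assoc, GroupoidSp.j, GroupoidSp.diag, pullback.lift_fst, pullback.lift_snd] at h₁ h₂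
  exact h₂.trans h₁.symm

/-- Loops factor through the stabilizer. -/
theorem exists_lift_stabilizer {T : Sp S} (x : T ⟶ G.R) (h : x ≫ G.s = x ≫ G.t) :
    ∃ y : T ⟶ G.stabilizer, y ≫ G.stabilizerι = x := by
  refine ⟨pullback.lift x (x ≫ G.s) ?_, pullback.lift_fst _ _ _⟩
  apply pullback.hom_ext <;>
    simp only [Category.assoc, GroupoidSp.j, GroupoidSp.diag, pullback.lift_fst, pullback.lift_snd, Category.comp_id, h]

theorem mono_stabilizerι : Mono G.stabilizerι := by
  haveI : Mono G.diag := mono_of_mono_fac (h := 𝟙 G.U)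
    (show G.diag ≫ pullback.fst G.pU G.pU = 𝟙 G.U from pullback.lift_fst _ _ _)
  exact inferInstanceAs (Mono (pullback.fst G.j G.diag))

/-- The groupoid and its stabilizer have the same dimension. -/
theorem dim_eq_dim_stabilizer (hR : IsAlgSpace G.R) (σ : Spec (CommRingCat.of k) ⟶ S)
    (eU : G.U ≅ (yon S).obj (Over.mk σ)) (hs : LocP @LocallyOfFiniteType G.s)
    (ht : LocP @LocallyOfFiniteType G.t) : AlgSp.dim G.R = AlgSp.dim G.stabilizer := by
  let qs := G.s ≫ eU.hom
  let qt := G.t ≫ eU.hom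
  have hiso : ∀ {f : G.R ⟶ G.U}, LocP @LocallyOfFiniteType f → LocP @LocallyOfFiniteType (f ≫ eU.hom) :=
    fun {f} hf U V a b h ha hb w => hf a (b ≫ eU.inv) h ha (repWith_comp hb (repWith_of_isIso _))
      (by rw [← Category.assoc, ← w]; simp only [Category.assoc, Iso.hom_inv_id, Category.comp_id])
  have hqs : LocP @LocallyOfFiniteType qs := hiso hs
  have hqt : LocP @LocallyOfFiniteType qt := hiso ht
  haveI := mono_stabilizerι G
  have hι : G.stabilizerι ≫ qs = G.stabilizerι ≫ qt := by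
    change G.stabilizerι ≫ G.s ≫ eU.hom = G.stabilizerι ≫ G.t ≫ eU.hom
    rw [reassoc_of% (stabilizerι_s_eq_t G)]
  have hlift : ∀ {T : Sp S} (x : T ⟶ G.R), x ≫ qs = x ≫ qt → ∃ y : T ⟶ G.stabilizer, y ≫ G.stabilizerι = x :=
    fun x h => exists_lift_stabilizer G x ((cancel_mono eU.hom).1 (by simpa only [Category.assoc] using h))
  have hιr := repWith_lft_equalizer qs qt G.stabilizerι hι hlift
  obtain ⟨U, p, hp, hps⟩ := hR.atlas
  have piece : ∀ (W : U.left.Opens) (hW : IsAffineOpen W),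
      RepWith @Etale ((yon S).map (Over.homMk hW.fromSpec rfl : specObj Γ(U.left, W) (hW.fromSpec ≫ U.hom) ⟶ U) ≫ p) :=
    fun W hW => repWith_comp ((repWith_yon_map_iff _ _).2 (show Etale hW.fromSpec from inferInstance)) hp
  refine le_antisymm ?_ ?_
  · refine dim_le_of_points σ hqs _ fun A _ _ _ g pA hpA hg hpq K _ _ _ φ N hN => ?_
    obtain ⟨ψt, hψt, -, hpt⟩ := exists_chart_algebra σ hqt hpA
    let D := φ.range
    haveI : Algebra.FiniteType k D := Algebra.FiniteType.of_surjective φ.rangeRestrict φ.rangeRestrict_surjective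
    have hunit : ∀ (c : k) (n : ℕ), (φ.rangeRestrict (ψt c)) ^ n - 1 ≠ 0 →
        IsUnit ((φ.rangeRestrict (ψt c)) ^ n - 1) := fun c n h => by
      have e : (φ.rangeRestrict (ψt c)) ^ n - 1 = (φ.rangeRestrict.toRingHom.comp ψt) (c ^ n - 1) := by
        simp
      rw [e] at h ⊢
      exact (Ne.isUnit fun hc => h (by rw [hc, map_zero])).map (φ.rangeRestrict.toRingHom.comp ψt)
    let τ : Spec (CommRingCat.of K) ⟶ S := Spec.map (CommRingCat.ofHom (algebraMap k K)) ≫ σ
    have hφ : Spec.map (CommRingCat.ofHom φ.toRingHom) ≫ g = τ := by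
      rw [← hg, ← Category.assoc, Branch.specMap_algHom]
    let mφ : specObj K τ ⟶ specObj A g := Over.homMk (Spec.map (CommRingCat.ofHom φ.toRingHom)) hφ
    obtain ⟨m, hm⟩ := Ideal.exists_maximal D
    letI : Field (D ⧸ m) := Ideal.Quotient.field m
    haveI : Algebra.FiniteType k (D ⧸ m) := Algebra.FiniteType.trans (R := k) (S := D) inferInstance inferInstance
    haveI : Module.Finite k (D ⧸ m) := finite_of_finite_type_of_isJacobsonRing k (D ⧸ m)
    let L := algebraicClosure k K
    let Lm := L.toSubalgebra ⊓ D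
    let ι₀ : Lm →ₐ[k] D := Subalgebra.inclusion inf_le_right
    let χ₀ : Lm →ₐ[k] D ⧸ m := (Ideal.Quotient.mkₐ k m).comp ι₀
    haveI : Algebra.IsAlgebraic k Lm := ⟨fun x => (isAlgebraic_algHom_iff Lm.val Subtype.val_injective).1
      (mem_algebraicClosure_iff.1 x.2.1)⟩
    have hLm : IsField Lm := isField_of_isIntegral_of_isField' (Field.toIsField k)
    letI : Field Lm := hLm.toField
    letI : Algebra Lm (D ⧸ m) := χ₀.toRingHom.toAlgebra
    haveI : IsScalarTower k Lm (D ⧸ m) := IsScalarTower.of_algebraMap_eq fun r => (χ₀.commutes r).symm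
    haveI : Algebra.IsAlgebraic Lm (D ⧸ m) :=
      Algebra.IsAlgebraic.tower_top (K := k) (L := Lm) (A := D ⧸ m)
    let χm : D ⧸ m →ₐ[Lm] K := IsAlgClosed.lift
    let χ : D →ₐ[k] K := (χm.restrictScalars k).comp (Ideal.Quotient.mkₐ k m)
    let φ₀ : A →ₐ[k] K := χ.comp φ.rangeRestrict
    have hfix : ∀ c, φ₀ (ψt c) = φ (ψt c) := fun c => by
      have hmem : (φ (ψt c)) ∈ Lm := ⟨mem_algebraicClosure_iff.2
        ((isAlgebraic_of_forall_unit (K := K) D (φ.rangeRestrict (ψt c)) (hunit c)).algHom D.val), ψt c, rfl⟩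
      exact χm.commutes ⟨_, hmem⟩
    have hφ₀ : Spec.map (CommRingCat.ofHom φ₀.toRingHom) ≫ g = τ := by
      rw [← hg, ← Category.assoc, Branch.specMap_algHom]
    let mφ₀ : specObj K τ ⟶ specObj A g := Over.homMk (Spec.map (CommRingCat.ofHom φ₀.toRingHom)) hφ₀
    let x := (yon S).map mφ ≫ pA
    let r₀ := (yon S).map mφ₀ ≫ pA
    have hxs : x ≫ G.s = r₀ ≫ G.s := (cancel_mono eU.hom).1 (by
      change ((_ ≫ pA) ≫ G.s) ≫ eU.hom = ((_ ≫ pA) ≫ G.s) ≫ eU.hom
      simp only [Category.assoc]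
      rw [show pA ≫ G.s ≫ eU.hom = _ from hpq, ← Functor.map_comp, ← Functor.map_comp]
      congr 1
      refine Over.OverMorphism.ext ?_
      simp only [Over.comp_left, Over.homMk_left, mφ, mφ₀, Branch.specMap_algHom])
    have hxt : x ≫ G.t = r₀ ≫ G.t := (cancel_mono eU.hom).1 (by
      change ((_ ≫ pA) ≫ G.t) ≫ eU.hom = ((_ ≫ pA) ≫ G.t) ≫ eU.hom
      simp only [Category.assoc]
      rw [show pA ≫ G.t ≫ eU.hom = _ from hpt, ← Functor.map_comp, ← Functor.map_comp]
      congr 1
      refine Over.OverMorphism.ext ?_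
      simp only [Over.comp_left, Over.homMk_left, mφ, mφ₀, ← Spec.map_comp, ← CommRingCat.ofHom_comp]
      congr 2
      exact RingHom.ext fun c => (hfix c).symm)
    have hcomp : (r₀ ≫ G.i) ≫ G.s = x ≫ G.t := by rw [Category.assoc, G.i_s, hxt]
    let γ := pullback.lift (r₀ ≫ G.i) x hcomp ≫ G.c
    have hγs : γ ≫ G.s = x ≫ G.s := G.comp_s _ _ _
    have hγt : γ ≫ G.t = x ≫ G.s := by
      rw [show γ ≫ G.t = (r₀ ≫ G.i) ≫ G.t from G.comp_t _ _ _, Category.assoc, G.i_t, hxs]
    have hrg : r₀ ≫ G.s = γ ≫ G.t := by rw [hγt, hxs]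
    have hback : pullback.lift r₀ γ hrg ≫ G.c = x := by
      have hr : r₀ ≫ G.s = (r₀ ≫ G.i) ≫ G.t := (Branch.i_heap G r₀).symm
      refine ((G.assoc r₀ (r₀ ≫ G.i) x hr hcomp).symm.trans ?_)
      refine Eq.trans ?_ (G.e_comp x)
      congr 1
      apply pullback.hom_ext
      · rw [pullback.lift_fst, pullback.lift_fst, G.comp_i r₀, ← Category.assoc, ← hxt, Category.assoc]
      · rw [pullback.lift_snd, pullback.lift_snd]
    obtain ⟨W, hW, φ', hφ', hγ⟩ := exists_affine_lift (K := K) hp hps γ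
    let A' := Γ(U.left, W)
    obtain ⟨ψ, hψ, hft, hps'⟩ := exists_chart_algebra σ hqs (piece W hW)
    obtain ⟨ψ', hψ', -, hpt'⟩ := exists_chart_algebra σ hqt (piece W hW)
    let J : Ideal A' := Ideal.span (Set.range fun c => ψ c - ψ' c)
    obtain ⟨l, hl, hlι⟩ := exists_equalizer_chart qs qt G.stabilizerι hι hlift _ _ (piece W hW) ψ ψ' hψ hψ'
      hps' hpt' J rfl
    let mγ : specObj K τ ⟶ specObj A' (hW.fromSpec ≫ U.hom) := Over.homMk (Spec.map (CommRingCat.ofHom φ')) hφ'
    have key : ∀ (η : k →+* A') (hη : Spec.map (CommRingCat.ofHom η) ≫ σ = hW.fromSpec ≫ U.hom) (f : G.R ⟶ G.U),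
        γ ≫ f = x ≫ G.s →
        ((yon S).map (Over.homMk hW.fromSpec rfl : specObj A' (hW.fromSpec ≫ U.hom) ⟶ U) ≫ p) ≫ f ≫ eU.hom =
          (yon S).map (Over.homMk (Spec.map (CommRingCat.ofHom η)) hη : specObj A' (hW.fromSpec ≫ U.hom) ⟶ Over.mk σ) →
        φ'.comp η = algebraMap k K := fun η hη f hf hfη => by
      have e : (yon S).map mγ ≫
          (yon S).map (Over.homMk (Spec.map (CommRingCat.ofHom η)) hη : specObj A' (hW.fromSpec ≫ U.hom) ⟶ Over.mk σ) =
            (yon S).map mφ ≫ (yon S).map (Over.homMk (Spec.map (CommRingCat.ofHom (algebraMap k A))) hg : specObj A g ⟶ Over.mk σ) := by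
        rw [← hfη, ← hpq, ← Category.assoc, hγ, ← Category.assoc γ, hf]
        simp only [x, qs, Category.assoc]
      rw [← Functor.map_comp, ← Functor.map_comp] at e
      have e' := congrArg CommaMorphism.left ((yon S).map_injective e)
      simp only [Over.comp_left, Over.homMk_left, mγ, mφ, ← Spec.map_comp, ← CommRingCat.ofHom_comp] at e'
      have e'' := congrArg CommRingCat.Hom.hom (Spec.map_injective e')
      exact (show φ'.comp η = φ.toRingHom.comp (algebraMap k A) from e'').trans φ.comp_algebraMap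
    have hks : φ'.comp ψ = algebraMap k K := key ψ hψ G.s hγs hps'
    have hkt : φ'.comp ψ' = algebraMap k K := key ψ' hψ' G.t hγt hpt'
    have hJ : J ≤ RingHom.ker φ' := Ideal.span_le.2 (by
      rintro _ ⟨c, rfl⟩
      rw [SetLike.mem_coe, RingHom.mem_ker, map_sub, sub_eq_zero]
      exact RingHom.congr_fun (hks.trans hkt.symm) c)
    letI : Algebra k (A' ⧸ J) := ((Ideal.Quotient.mk J).comp ψ).toAlgebra
    haveI : Algebra.FiniteType k (A' ⧸ J) := by
      letI : Algebra k A' := ψ.toAlgebra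
      haveI : Algebra.FiniteType k A' := hft
      exact Algebra.FiniteType.of_surjective (Ideal.Quotient.mkₐ k J) Ideal.Quotient.mk_surjective
    let φJ : A' ⧸ J →ₐ[k] K :=
      { Ideal.Quotient.lift J φ' hJ with commutes' := fun c => RingHom.congr_fun hks c }
    obtain ⟨N', hN', hle⟩ := exists_tdeg_le_dim hl φJ
    refine le_trans ?_ hle
    -- the product chart
    let P := A ⊗[k] (A' ⧸ J)
    let gP : Spec (CommRingCat.of P) ⟶ S := Spec.map (CommRingCat.ofHom (algebraMap k P)) ≫ σ
    let pr : specObj P gP ⟶ specObj A g :=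
      Over.homMk (Spec.map (CommRingCat.ofHom (Algebra.TensorProduct.includeLeftRingHom : A →+* P))) (by
        rw [← hg]
        change _ ≫ _ ≫ σ = _ ≫ σ
        rw [← Category.assoc, ← Spec.map_comp]
        rfl)
    let pr' : specObj P gP ⟶ specObj (A' ⧸ J) (Spec.map (CommRingCat.ofHom (Ideal.Quotient.mk J)) ≫ hW.fromSpec ≫ U.hom) :=
      Over.homMk (Spec.map (CommRingCat.ofHom (Algebra.TensorProduct.includeRight : (A' ⧸ J) →ₐ[k] P).toRingHom)) (by
        rw [← hψ]
        change _ ≫ _ ≫ _ ≫ σ = _ ≫ σ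
        simp only [← Category.assoc, ← Spec.map_comp, ← CommRingCat.ofHom_comp]
        congr 3
        exact (Algebra.TensorProduct.includeRight : (A' ⧸ J) →ₐ[k] P).comp_algebraMap)
    have hpair : ((yon S).map pr ≫ pA) ≫ G.s = (((yon S).map pr' ≫ l) ≫ G.stabilizerι) ≫ G.t := by
      refine (cancel_mono eU.hom).1 ?_
      simp only [Category.assoc]
      rw [show pA ≫ G.s ≫ eU.hom = _ from hpq, ← reassoc_of% (stabilizerι_s_eq_t G), ← Category.assoc l, hlι,
        Category.assoc, show _ ≫ G.s ≫ eU.hom = _ from hps', ← Functor.map_comp, ← Functor.map_comp,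
        ← Functor.map_comp]
      congr 1
      refine Over.OverMorphism.ext ?_
      simp only [Over.comp_left, Over.homMk_left, pr, pr', ← Spec.map_comp, ← CommRingCat.ofHom_comp]
      congr 2
      exact (Algebra.TensorProduct.includeRight : (A' ⧸ J) →ₐ[k] P).comp_algebraMap.symm
    let f := pullback.lift _ _ hpair ≫ G.c
    let ρ : P →ₐ[k] K := Algebra.TensorProduct.lift φ₀ φJ fun _ _ => Commute.all _ _
    have hρ : Spec.map (CommRingCat.ofHom ρ.toRingHom) ≫ gP = τ := by
      change _ ≫ _ ≫ σ = _ ≫ σ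
      rw [← Category.assoc, Branch.specMap_algHom]
    let mρ : specObj K τ ⟶ specObj P gP := Over.homMk (Spec.map (CommRingCat.ofHom ρ.toRingHom)) hρ
    have h1 : mρ ≫ pr = mφ₀ := Over.OverMorphism.ext (by
      simp only [Over.comp_left, Over.homMk_left, mρ, pr, mφ₀, ← Spec.map_comp, ← CommRingCat.ofHom_comp]
      congr 2
      exact RingHom.ext fun a => by
        change ρ (a ⊗ₜ[k] (1 : A' ⧸ J)) = φ₀ a
        rw [Algebra.TensorProduct.lift_tmul, map_one, _root_.mul_one])
    have h2 : (yon S).map mρ ≫ ((yon S).map pr' ≫ l) ≫ G.stabilizerι = γ := by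
      rw [Category.assoc, hlι, ← hγ, ← Functor.map_comp_assoc, ← Functor.map_comp_assoc]
      congr 2
      refine Over.OverMorphism.ext ?_
      simp only [Over.comp_left, Over.homMk_left, mρ, pr', Category.assoc]
      rw [← Spec.map_comp, ← Spec.map_comp, ← CommRingCat.ofHom_comp, ← CommRingCat.ofHom_comp]
      congr 2
      exact RingHom.ext fun a => by
        change ρ ((1 : A) ⊗ₜ[k] Ideal.Quotient.mk J a) = φ' a
        rw [Algebra.TensorProduct.lift_tmul, map_one, _root_.one_mul]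
        rfl
    have hf : (yon S).map mρ ≫ f = x := by
      rw [← hback]
      simp only [f, ← Category.assoc]
      congr 1
      apply pullback.hom_ext
      · rw [Category.assoc, pullback.lift_fst, pullback.lift_fst, ← Category.assoc, ← Functor.map_comp, h1]
      · rw [Category.assoc, pullback.lift_snd, pullback.lift_snd]
        exact h2
    have hT : ∀ z, ρ z ∈ IntermediateField.adjoin k (Set.range φ₀ ∪ Set.range φJ) := fun z => by
      induction z using TensorProduct.induction_on with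
      | zero => rw [map_zero]; exact zero_mem _
      | add a b ha hb => rw [map_add]; exact add_mem ha hb
      | tmul a b =>
        rw [Algebra.TensorProduct.lift_tmul]
        exact mul_mem (IntermediateField.subset_adjoin k _ (Or.inl ⟨a, rfl⟩))
          (IntermediateField.subset_adjoin k _ (Or.inr ⟨b, rfl⟩))
    have hb := tdeg_chart_le (k := k) hpA f φ.toRingHom ρ.toRingHom hφ hρ hf.symm
      (T := Set.range φ₀ ∪ Set.range φJ) hT
    have hc : tdeg k (Set.range φ₀ ∪ Set.range φJ) ≤ tdeg k (Set.range φJ) := by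
      refine tdeg_le_of_isAlgebraic fun z hz => ?_
      rcases hz with ⟨a, rfl⟩ | ⟨b, rfl⟩
      · refine IsAlgebraic.extendScalars (R := k) (algebraMap k _).injective ?_
        haveI : Algebra.IsAlgebraic k (D ⧸ m) := Algebra.IsAlgebraic.of_finite k _
        exact (Algebra.IsAlgebraic.isAlgebraic (R := k) (Ideal.Quotient.mk m (φ.rangeRestrict a))).algHom
          (χm.restrictScalars k)
      · exact isAlgebraic_algebraMap (⟨φJ b, IntermediateField.subset_adjoin k _ ⟨b, rfl⟩⟩ :
          IntermediateField.adjoin k (Set.range φJ))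
    have hfin : (N : Cardinal.{u}) ≤ N' := hN ▸ hN' ▸ hb.trans hc
    exact_mod_cast (Nat.cast_le (α := Cardinal.{u})).1 hfin
  · -- charts of the stabilizer
    refine dim_le_of_points σ (q := G.stabilizerι ≫ qs) ?_ _ fun A _ _ _ g pA hpA hg hpq K _ _ _ φ N hN => ?_
    · exact locP_comp etLocal_lft (isAlgSpace_of_representable _ hιr.1 hR) hR (IsAlgSpace.yon_obj _)
        (locP_of_repWith etLocal_lft hιr) hqs
    let τ : Spec (CommRingCat.of K) ⟶ S := Spec.map (CommRingCat.ofHom (algebraMap k K)) ≫ σ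
    have hφ : Spec.map (CommRingCat.ofHom φ.toRingHom) ≫ g = τ := by
      rw [← hg, ← Category.assoc, Branch.specMap_algHom]
    let mφ : specObj K τ ⟶ specObj A g := Over.homMk (Spec.map (CommRingCat.ofHom φ.toRingHom)) hφ
    let y := (yon S).map mφ ≫ pA
    obtain ⟨W, hW, φ', hφ', hy⟩ := exists_affine_lift (K := K) hp hps (y ≫ G.stabilizerι)
    let A' := Γ(U.left, W)
    obtain ⟨ψ, hψ, hft, hps'⟩ := exists_chart_algebra σ hqs (piece W hW)
    obtain ⟨ψ', hψ', -, hpt'⟩ := exists_chart_algebra σ hqt (piece W hW)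
    let J : Ideal A' := Ideal.span (Set.range fun c => ψ c - ψ' c)
    obtain ⟨l, hl, hlι⟩ := exists_equalizer_chart qs qt G.stabilizerι hι hlift _ _ (piece W hW) ψ ψ' hψ hψ'
      hps' hpt' J rfl
    let mγ : specObj K τ ⟶ specObj A' (hW.fromSpec ≫ U.hom) := Over.homMk (Spec.map (CommRingCat.ofHom φ')) hφ'
    have key : ∀ (η : k →+* A') (hη : Spec.map (CommRingCat.ofHom η) ≫ σ = hW.fromSpec ≫ U.hom) (q : G.R ⟶ (yon S).obj (Over.mk σ)),
        G.stabilizerι ≫ q = G.stabilizerι ≫ qs →
        ((yon S).map (Over.homMk hW.fromSpec rfl : specObj A' (hW.fromSpec ≫ U.hom) ⟶ U) ≫ p) ≫ q =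
          (yon S).map (Over.homMk (Spec.map (CommRingCat.ofHom η)) hη : specObj A' (hW.fromSpec ≫ U.hom) ⟶ Over.mk σ) →
        φ'.comp η = algebraMap k K := fun η hη q hq hqη => by
      have e : (yon S).map mγ ≫
          (yon S).map (Over.homMk (Spec.map (CommRingCat.ofHom η)) hη : specObj A' (hW.fromSpec ≫ U.hom) ⟶ Over.mk σ) =
            (yon S).map mφ ≫ (yon S).map (Over.homMk (Spec.map (CommRingCat.ofHom (algebraMap k A))) hg : specObj A g ⟶ Over.mk σ) := by
        rw [← hqη, ← hpq, ← Category.assoc, hy]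
        simp only [y, Category.assoc, hq]
      rw [← Functor.map_comp, ← Functor.map_comp] at e
      have e' := congrArg CommaMorphism.left ((yon S).map_injective e)
      simp only [Over.comp_left, Over.homMk_left, mγ, mφ, ← Spec.map_comp, ← CommRingCat.ofHom_comp] at e'
      have e'' := congrArg CommRingCat.Hom.hom (Spec.map_injective e')
      exact (show φ'.comp η = φ.toRingHom.comp (algebraMap k A) from e'').trans φ.comp_algebraMap
    have hks : φ'.comp ψ = algebraMap k K := key ψ hψ qs rfl hps'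
    have hkt : φ'.comp ψ' = algebraMap k K := key ψ' hψ' qt hι.symm hpt'
    have hJ : J ≤ RingHom.ker φ' := Ideal.span_le.2 (by
      rintro _ ⟨c, rfl⟩
      rw [SetLike.mem_coe, RingHom.mem_ker, map_sub, sub_eq_zero]
      exact RingHom.congr_fun (hks.trans hkt.symm) c)
    let φJ := Ideal.Quotient.lift J φ' hJ
    have hJ' : Spec.map (CommRingCat.ofHom φJ) ≫ Spec.map (CommRingCat.ofHom (Ideal.Quotient.mk J)) ≫
        hW.fromSpec ≫ U.hom = τ := by
      rw [← Category.assoc, ← Spec.map_comp, ← CommRingCat.ofHom_comp]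
      exact hφ'
    have e : (yon S).map mφ ≫ pA = (yon S).map (Over.homMk (Spec.map (CommRingCat.ofHom φJ)) hJ' :
        specObj K τ ⟶ specObj (A' ⧸ J) _) ≫ l := by
      rw [← cancel_mono G.stabilizerι, Category.assoc _ l, hlι, ← hy]
      simp only [← Category.assoc, ← Functor.map_comp]
      congr 2
      refine Over.OverMorphism.ext ?_
      simp only [Over.comp_left, Over.homMk_left]
      rw [← Spec.map_comp, ← CommRingCat.ofHom_comp]
      rfl
    letI : Algebra k A' := ψ.toAlgebra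
    haveI : Algebra.FiniteType k A' := hft
    let φa : A' →ₐ[k] K := { φ' with commutes' := fun c => RingHom.congr_fun hks c }
    obtain ⟨N', hN', hle⟩ := exists_tdeg_le_dim (piece W hW) φa
    refine le_trans ?_ hle
    have hb := tdeg_chart_le (k := k) hpA l φ.toRingHom φJ hφ hJ' e (T := Set.range φa) fun z => by
      obtain ⟨a, rfl⟩ := Ideal.Quotient.mk_surjective z
      exact IntermediateField.subset_adjoin k _ ⟨a, rfl⟩
    have hfin : (N : Cardinal.{u}) ≤ N' := hN ▸ hN' ▸ hb
    exact_mod_cast (Nat.cast_le (α := Cardinal.{u})).1 hfin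

end Groth.Agent.H12AlgSp.Dim
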