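import Groth.Agent.H8Props.FieldDimRing
import Mathlib

/-!
Transcendence degrees of sets inside a big field; dimension of finite type algebras through points.
-/

set_option autoImplicit false
set_option backward.isDefEq.respectTransparency false
set_option linter.style.haveILetI false

universe u

open scoped TensorProduct

namespace Groth.Agent.H12AlgSp.Dim

variable {k K : Type u} [Field k] [Field K] [Algebra k K]

/-- The transcendence degree of the field generated by a set. -/
noncomputable def tdeg (k : Type u) [Field k] {K : Type u} [Field K] [Algebra k K] (S : Set K) : Cardinal.{u} :=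
  Algebra.trdeg k (IntermediateField.adjoin k S)

/-- Algebraic elements do not increase the transcendence degree. -/
theorem tdeg_le_of_isAlgebraic {S T : Set K} (h : ∀ x ∈ S, IsAlgebraic (IntermediateField.adjoin k T) x) :
    tdeg k S ≤ tdeg k T := by
  let F := IntermediateField.adjoin k T
  let E := algebraicClosure F K
  let E' : IntermediateField k K := E.restrictScalars k
  have hle : IntermediateField.adjoin k S ≤ E' :=
    IntermediateField.adjoin_le_iff.2 fun x hx => mem_algebraicClosure_iff.2 (h x hx)
  refine (trdeg_le_of_injective (IntermediateField.inclusion hle) (IntermediateField.inclusion hle).injective).trans ?_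
  haveI : IsScalarTower k F E := inferInstance
  haveI : Algebra.IsAlgebraic F E := algebraicClosure.isAlgebraic F K
  have h1 := trdeg_add_eq (R := k) (S := F) (A := E)
  rw [trdeg_eq_zero (R := F) (A := E), add_zero] at h1
  exact h1.ge

theorem tdeg_mono {S T : Set K} (h : S ⊆ T) : tdeg k S ≤ tdeg k T :=
  tdeg_le_of_isAlgebraic fun x hx =>
    isAlgebraic_algebraMap (⟨x, IntermediateField.subset_adjoin k T (h hx)⟩ : IntermediateField.adjoin k T)

/-- The dimension of the closure of the point of a homomorphism is the transcendence degree of its image. -/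
theorem exists_dim_eq_tdeg (A : Type u) [CommRing A] [Algebra k A] [Algebra.FiniteType k A] (φ : A →ₐ[k] K) :
    ∃ s : ℕ, ringKrullDim (A ⧸ RingHom.ker φ) = s ∧ tdeg k (Set.range φ) = s := by
  let P := RingHom.ker φ
  haveI : P.IsPrime := RingHom.ker_isPrime _
  let D := A ⧸ P
  haveI : Algebra.FiniteType k D := Algebra.FiniteType.trans (R := k) (S := A) inferInstance inferInstance
  obtain ⟨s, hs, hs'⟩ := H8Props.FieldDim.exists_dim_trdeg k D
  refine ⟨s, hs, ?_⟩
  let φ' : D →ₐ[k] K := Ideal.kerLiftAlg φ
  have hinj : Function.Injective φ' := Ideal.kerLiftAlg_injective φ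
  let L := FractionRing D
  let ψ : L →ₐ[k] K := IsFractionRing.liftAlgHom hinj
  have hψ : ∀ a, ψ (algebraMap D L (Ideal.Quotient.mk P a)) = φ a := fun a =>
    IsFractionRing.lift_algebraMap hinj _
  have he : IntermediateField.adjoin k (Set.range φ) = ψ.fieldRange := by
    refine le_antisymm (IntermediateField.adjoin_le_iff.2 ?_) ?_
    · rintro _ ⟨a, rfl⟩
      exact ⟨_, hψ a⟩
    · rintro _ ⟨y, rfl⟩
      obtain ⟨a, b, -, rfl⟩ := IsFractionRing.div_surjective (A := D) y
      obtain ⟨a, rfl⟩ := Ideal.Quotient.mk_surjective a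
      obtain ⟨b, rfl⟩ := Ideal.Quotient.mk_surjective b
      change ψ _ ∈ _
      rw [map_div₀, hψ, hψ]
      exact div_mem (IntermediateField.subset_adjoin k _ ⟨a, rfl⟩) (IntermediateField.subset_adjoin k _ ⟨b, rfl⟩)
  rw [tdeg, he]
  let e : L ≃ₐ[k] ψ.fieldRange := AlgEquiv.ofInjectiveField ψ
  rw [← le_antisymm (trdeg_le_of_injective e.toAlgHom e.injective) (trdeg_le_of_injective e.symm.toAlgHom e.symm.injective)]
  haveI : FaithfulSMul k D := (faithfulSMul_iff_algebraMap_injective k D).2 (algebraMap k D).injective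
  haveI : Algebra.IsAlgebraic D L := IsLocalization.isAlgebraic L (nonZeroDivisors D)
  have h1 := trdeg_add_eq (R := k) (S := D) (A := L)
  rw [trdeg_eq_zero (R := D) (A := L), add_zero] at h1
  rw [← h1, hs']

/-- Points of formally unramified algebras of finite type are algebraic over the base point. -/
theorem isAlgebraic_of_unramified {R C : Type u} [CommRing R] [CommRing C] [Algebra R C]
    [Algebra.FiniteType R C] [Algebra.FormallyUnramified R C] (χ : C →+* K) (F : IntermediateField k K)
    (hF : ∀ r, χ (algebraMap R C r) ∈ F) (c : C) : IsAlgebraic F (χ c) := by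
  let f : R →+* F := (χ.comp (algebraMap R C)).codRestrict F hF
  letI : Algebra R F := f.toAlgebra
  haveI : Algebra.EssFiniteType F (F ⊗[R] C) := inferInstance
  haveI : Module.Finite F (F ⊗[R] C) := Algebra.FormallyUnramified.finite_of_free F (F ⊗[R] C)
  letI : Algebra R K := (χ.comp (algebraMap R C)).toAlgebra
  haveI : IsScalarTower R F K := IsScalarTower.of_algebraMap_eq fun _ => rfl
  let χa : C →ₐ[R] K := { χ with commutes' := fun _ => rfl }
  let m : F ⊗[R] C →ₐ[F] K := Algebra.TensorProduct.lift (Algebra.ofId F K) χa fun _ _ => Commute.all _ _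
  have hi : IsIntegral F ((1 : F) ⊗ₜ[R] c) := Algebra.IsIntegral.isIntegral _
  have := hi.map m
  rw [Algebra.TensorProduct.lift_tmul, map_one, _root_.one_mul] at this
  exact this.isAlgebraic

/-- A transcendental element is not a unit-generating parameter of a finitely generated domain. -/
theorem isAlgebraic_of_forall_unit [IsAlgClosed K] (D : Type u) [CommRing D] [IsDomain D] [Algebra k D]
    [Algebra.FiniteType k D] (x : D) (hx : ∀ n : ℕ, x ^ n - 1 ≠ 0 → IsUnit (x ^ n - 1)) :
    IsAlgebraic k x := by
  classical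
  by_contra ht
  let f : Polynomial k →ₐ[k] D := Polynomial.aeval x
  have hinj : Function.Injective f := transcendental_iff_injective.1 ht
  letI : Algebra (Polynomial k) D := f.toRingHom.toAlgebra
  haveI : IsScalarTower k (Polynomial k) D := IsScalarTower.of_algebraMap_eq fun r => (f.commutes r).symm
  haveI : Algebra.FiniteType (Polynomial k) D := Algebra.FiniteType.of_restrictScalars_finiteType k _ _
  haveI : Algebra.FinitePresentation (Polynomial k) D := Algebra.FinitePresentation.of_finiteType.1 inferInstance
  haveI : Module.Flat (Polynomial k) D := by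
    rw [IsDedekindDomain.flat_iff_torsion_eq_bot, eq_bot_iff]
    intro d hd
    obtain ⟨⟨q, hq⟩, hqd⟩ := (Submodule.mem_torsion_iff d).1 hd
    have h2 : f q * d = 0 := hqd
    rcases mul_eq_zero.1 h2 with h | h
    · exact absurd ((map_eq_zero_iff f hinj).1 h) (nonZeroDivisors.ne_zero hq)
    · exact (Submodule.mem_bot _).2 h
  let cm := PrimeSpectrum.comap (algebraMap (Polynomial k) D)
  have hopen : IsOpen (Set.range cm) :=
    (PrimeSpectrum.isOpenMap_comap_of_hasGoingDown_of_finitePresentation (R := Polynomial k) (S := D)).isOpen_range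
  obtain ⟨_, ⟨g, rfl⟩, hg0, hg⟩ := PrimeSpectrum.isTopologicalBasis_basic_opens.exists_subset_of_mem_open
    (⟨⟨⊥, Ideal.isPrime_bot⟩, rfl⟩ : cm ⟨⊥, Ideal.isPrime_bot⟩ ∈ Set.range cm) hopen
  have hg' : g ≠ 0 := fun h => hg0 (h ▸ Submodule.zero_mem _)
  let E := AlgebraicClosure k
  obtain ⟨n, hn, hnp, hnE⟩ : ∃ n : ℕ, g.natDegree < n ∧ 0 < n ∧ (n : E) ≠ 0 := by
    by_cases h : ((g.natDegree + 1 : ℕ) : E) = 0
    · refine ⟨g.natDegree + 2, by omega, by omega, ?_⟩
      rw [show g.natDegree + 2 = g.natDegree + 1 + 1 from rfl, Nat.cast_succ, h, zero_add]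
      exact one_ne_zero
    · exact ⟨g.natDegree + 1, by omega, by omega, h⟩
  let P : Polynomial E := Polynomial.X ^ n - Polynomial.C 1
  have hP : P.Separable := Polynomial.separable_X_pow_sub_C 1 hnE one_ne_zero
  have hcard : P.roots.toFinset.card = n := by
    rw [Multiset.toFinset_card_of_nodup (Polynomial.nodup_roots hP), IsAlgClosed.card_roots_eq_natDegree]
    exact Polynomial.natDegree_X_pow_sub_C
  have hge : g.map (algebraMap k E) ≠ 0 := (Polynomial.map_ne_zero_iff (RingHom.injective _)).2 hg'
  obtain ⟨a, ha, hga⟩ : ∃ a ∈ P.roots.toFinset, (g.map (algebraMap k E)).eval a ≠ 0 := by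
    by_contra hc
    push Not at hc
    have hsub : P.roots.toFinset ⊆ (g.map (algebraMap k E)).roots.toFinset := fun a ha =>
      Multiset.mem_toFinset.2 ((Polynomial.mem_roots hge).2 (hc a ha))
    have := (Finset.card_le_card hsub).trans ((Multiset.toFinset_card_le _).trans (Polynomial.card_roots' _))
    rw [hcard, Polynomial.natDegree_map] at this
    omega
  let ev : Polynomial k →ₐ[k] E := Polynomial.aeval a
  let 𝔭 : PrimeSpectrum (Polynomial k) := ⟨RingHom.ker ev, RingHom.ker_isPrime _⟩
  have hga' : g ∉ 𝔭.asIdeal := by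
    change ¬ (Polynomial.aeval a g = 0)
    rwa [Polynomial.aeval_def, ← Polynomial.eval_map]
  obtain ⟨Q, hQ⟩ := hg hga'
  have hroot : a ^ n = 1 := by
    have := (Polynomial.mem_roots'.1 (Multiset.mem_toFinset.1 ha)).2
    simpa [P, sub_eq_zero] using this
  have hmem : (Polynomial.X ^ n - 1 : Polynomial k) ∈ 𝔭.asIdeal := by
    change Polynomial.aeval a (Polynomial.X ^ n - 1 : Polynomial k) = 0
    simp [hroot]
  rw [← hQ] at hmem
  have hne : x ^ n - 1 ≠ 0 := fun h => by
    have h2 : f (Polynomial.X ^ n - 1) = 0 := by simp [f, h]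
    have h3 := (map_eq_zero_iff f hinj).1 h2
    exact (Polynomial.X_pow_sub_C_ne_zero hnp (1 : k)) (by rwa [map_one])
  refine Q.isPrime.ne_top (Ideal.eq_top_of_isUnit_mem _ ?_ (hx n hne))
  have e : algebraMap (Polynomial k) D (Polynomial.X ^ n - 1) = x ^ n - 1 := by
    change f _ = _
    simp [f]
  rw [← e]
  exact hmem

end Groth.Agent.H12AlgSp.Dim
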